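import Groth.Agent.Ref1Lib.Divs
import Groth.Agent.Ref1Lib.DivProps
import Groth.Prelude.Def_RefPow

/-!
# Reflexive powers of a rank one reflexive module and a section
-/

set_option autoImplicit false
set_option linter.style.haveILetI false
universe u

open CategoryTheory AlgebraicGeometry TopologicalSpace Opposite

noncomputable section

namespace RefPowLib

open RefHullLib (specializes_generic mem_of_nonempty)
open Ref1Lib (spec FreeGen tp)

variable {X : Scheme.{u}} {F : X.Modules} (s : Coh.structureModule X ⟶ F)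

/-- The germ of the section. -/
abbrev sGerm (x : X) : F.presheaf.stalk x := F.presheaf.germ ⊤ x trivial (SecTwist.val s ⊤)

theorem sPowGerm_one (x : X) : RefPow.sPowGerm s 1 x = sGerm s x := by
  show F.presheaf.germ ⊤ x trivial (SecTwist.val (RefPow.sPow s 1) ⊤) = _
  rw [RefPow.sPow_one]
  rfl

theorem sPowGerm_succ (n : ℕ) (x : X) :
    RefPow.sPowGerm s (n + 1) x = RefHull.stalkMapₗ (RefPow.mulBy s n) x (RefPow.sPowGerm s n x) := by
  rw [RefHull.stalkMapₗ_germ]
  rfl

theorem mulBy_stalk (n : ℕ) (x : X) (t : (RefPow.refPow F (n + 1)).presheaf.stalk x) :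
    RefHull.stalkMapₗ (RefPow.mulBy s (n + 1)) x t =
      RefHull.stalkMapₗ (RefPow.toRefTensor (RefPow.refPow F (n + 1)) F) x
        (tp (RefPow.refPow F (n + 1)) F x t (sGerm s x)) := by
  obtain ⟨U, hx, m, rfl⟩ := TopCat.Presheaf.exists_germ_eq (RefPow.refPow F (n + 1)).presheaf (x := x) t
  have hv : sGerm s x = F.presheaf.germ U x hx (SecTwist.val s U) :=
    ((TopCat.Presheaf.germ_res_apply F.presheaf (homOfLE (le_top : U ≤ ⊤)) x hx (SecTwist.val s ⊤)).symm.trans
      (congrArg (F.presheaf.germ U x hx) (SecTwist.map_val s (homOfLE (le_top : U ≤ ⊤)))))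
  rw [hv, Ref1Lib.tp_germ, RefHull.stalkMapₗ_germ, RefHull.stalkMapₗ_germ, RefPow.mulBy_succ_app]
  rfl

theorem mem_isoLocus_iff (x : X) : x ∈ RefPow.isoLocus s ↔ FreeGen F x (sGerm s x) := by
  have h1 := (AmpleLib.one_genOn (X := X) ⊤).genAt (x := x) trivial
  have e : RefHull.stalkMapₗ s x ((Coh.structureModule X).presheaf.germ ⊤ x trivial (1 : Γ(X, ⊤))) = sGerm s x :=
    RefHull.stalkMapₗ_germ s (U := (⊤ : X.Opens)) x trivial _
  rw [RefPow.mem_isoLocus]
  constructor
  · intro h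
    exact e ▸ Ref1Lib.freeGen_map s h1 h
  · intro h
    have hc : (RefHull.stalkMapₗ s x : _ → _) ∘
        (fun c : X.presheaf.stalk x => c • (Coh.structureModule X).presheaf.germ ⊤ x trivial (1 : Γ(X, ⊤))) =
        fun c : X.presheaf.stalk x => c • sGerm s x := funext fun c => by
      rw [← e]
      exact map_smul _ c _
    exact (Function.Bijective.of_comp_iff _ h1).1 (hc ▸ h)

variable [IsIntegral X] [IsLocallyNoetherian X] (hF : RefHull.IsRef1 F)

include hF in
theorem isRef1_refPow : ∀ n, RefHull.IsRef1 (RefPow.refPow F n)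
  | 0 => Ref1Lib.isRef1_unit
  | 1 => hF
  | n + 2 => Ref1Lib.isRef1_ddualTensor (isRef1_refPow (n + 1)) hF

include hF in
theorem freeGen_sPow {x : X} (hx : x ∈ RefPow.isoLocus s) : ∀ n, FreeGen (RefPow.refPow F n) x (RefPow.sPowGerm s n x)
  | 0 => (AmpleLib.one_genOn (X := X) ⊤).genAt (x := x) trivial
  | 1 => (sPowGerm_one s x).symm ▸ (mem_isoLocus_iff s x).1 hx
  | n + 2 => by
    have h := Ref1Lib.freeGen_tp (freeGen_sPow hx (n + 1)) ((mem_isoLocus_iff s x).1 hx)
    rw [sPowGerm_succ, mulBy_stalk]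
    exact Ref1Lib.freeGen_map _ h
      (Ref1Lib.bijective_bidual_of_free (Ref1Lib.isCoh_tensor (isRef1_refPow hF (n + 1)).1 hF.1) h)

include hF in
/-- At a point of codimension one, the powers of the section in terms of generators. -/
theorem exists_gen_pow (hX : Pi1.IsNormalScheme X) {x : X} (hx : Order.coheight x = 1) :
    ∃ a : X.presheaf.stalk x, (IsUnit a → x ∈ RefPow.isoLocus s) ∧
      ∀ n, ∃ T, FreeGen (RefPow.refPow F n) x T ∧ RefPow.sPowGerm s n x = a ^ n • T := by
  obtain ⟨t, ht⟩ := Ref1Lib.exists_freeGen hX hF hx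
  obtain ⟨a, ha⟩ := ht.2 (sGerm s x)
  refine ⟨a, fun hu => (mem_isoLocus_iff s x).2 ?_, fun n => ?_⟩
  · rw [← ha]
    refine (congrArg Function.Bijective (funext fun c => ?_)).mp (ht.comp hu.unit.mulRight.bijective)
    exact mul_smul c a t
  induction n with
  | zero =>
    exact ⟨_, (AmpleLib.one_genOn (X := X) ⊤).genAt (x := x) trivial, (by rw [pow_zero, one_smul]; rfl)⟩
  | succ n ih =>
    match n, ih with
    | 0, _ => exact ⟨t, ht, by rw [sPowGerm_one, ← ha, pow_one]; rfl⟩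
    | n + 1, ⟨T, hT, hTs⟩ =>
      have h := Ref1Lib.freeGen_tp hT ht
      refine ⟨_, Ref1Lib.freeGen_map (RefPow.toRefTensor (RefPow.refPow F (n + 1)) F) h
        (Ref1Lib.bijective_bidual_of_free (Ref1Lib.isCoh_tensor (isRef1_refPow hF (n + 1)).1 hF.1) h), ?_⟩
      rw [sPowGerm_succ, mulBy_stalk, hTs, ← ha]
      dsimp only
      rw [Ref1Lib.tp_smul_smul, map_smul, ← pow_succ]
      rfl

include hF in
/-- A section with prescribed generic germ, given codimension one conditions. -/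
theorem exists_section_of_lattice (hX : Pi1.IsNormalScheme X) {W : X.Opens}
    (v : F.presheaf.stalk (genericPoint X))
    (h : ∀ x ∈ W, Order.coheight x = 1 → v ∈ Set.range (spec F x)) :
    ∃ t : Γ(F, W), ∀ hη : genericPoint X ∈ W, F.presheaf.germ W _ hη t = v := by
  haveI := hF.1.1
  haveI : IsIso (RefHull.bidualMap F) := hF.2.1
  obtain ⟨hi, he⟩ := (ZClosLib.isZClosed_iff (ZClosLib.stableUnderSpecialization_dimGe 2)).mp
    (RefHullLib.isZClosed_dual hX (RefHullLib.isCoh_dual hF.1))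
  let D := RefHull.ddual F
  let β := RefHull.bidualMap F
  have hD : ∀ (V : X.Opens) (a b : Γ(D, V)),
      (∀ hη : genericPoint X ∈ V, D.presheaf.germ V _ hη a = D.presheaf.germ V _ hη b) → a = b :=
    fun V a b e => RefHullLib.dual_section_ext (RefHullLib.isCoh_dual hF.1) a b e
  let κ := {V : X.Opens // ∃ (_ : V ≤ W) (a : Γ(F, V)), ∀ hη : genericPoint X ∈ V,
    F.presheaf.germ V _ hη a = v}
  choose hle a ha using fun V : κ => V.2
  let W' : X.Opens := ⨆ V : κ, V.1
  obtain ⟨g, hg⟩ := ModGlueLib.exists_glue (M := F) (V := W') (fun V : κ => V.1)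
    (fun V => le_iSup (fun V : κ => V.1) V) (fun x hx => Opens.mem_iSup.mp hx) a fun V V' =>
    RefHullLib.germ_ext F _ _ fun y hy => Ref1Lib.spec_injective hF y (by
      rw [Ref1Lib.spec_germ, Ref1Lib.spec_germ, ZClosLib.germ_rs, ZClosLib.germ_rs, ha, ha])
  have hWle : W' ≤ W := iSup_le hle
  have hloc : ∀ x (_ : x ∈ W), x ∉ ZClos.dimGe X 2 → ∃ V : κ, x ∈ V.1 := fun x hx hxZ => by
    obtain ⟨c, hc⟩ : v ∈ Set.range (spec F x) := by
      rcases ZClosLib.dim_eq_zero_or_one hxZ with h0 | h1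
      · obtain rfl := RefHullLib.eq_generic_of_dim_zero h0
        obtain ⟨V, hV, m, rfl⟩ := F.presheaf.exists_germ_eq (x := genericPoint X) v
        exact ⟨_, Ref1Lib.spec_germ F hV m⟩
      · rw [ringKrullDim_stalk_eq_coheight] at h1
        exact h x hx (by exact_mod_cast h1)
    obtain ⟨U, hxU, m, rfl⟩ := F.presheaf.exists_germ_eq (x := x) c
    refine ⟨⟨W ⊓ U, inf_le_left, F.presheaf.map (homOfLE (inf_le_right : W ⊓ U ≤ U)).op m, fun hη => ?_⟩,
      ⟨hx, hxU⟩⟩
    rw [TopCat.Presheaf.germ_res_apply, ← hc, Ref1Lib.spec_germ]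
  obtain ⟨t, ht⟩ := he hWle (fun x hx => not_not.mp fun hxZ => hx.2 (by
    obtain ⟨V, hV⟩ := hloc x hx.1 hxZ
    exact Opens.mem_iSup.mpr ⟨V, hV⟩)) (β.app W' g)
  refine ⟨(inv β).app W t, fun hη => ?_⟩
  have hηZ : genericPoint X ∉ ZClos.dimGe X 2 := fun hZ => by
    have h2 := RefHullLib.mem_dimGe_two.1 hZ
    rw [ringKrullDim_stalk_eq_coheight, Order.coheight_eq_zero.2 (fun y _ =>
      Scheme.le_iff_specializes.2 (specializes_generic y))] at h2
    exact absurd h2 (by decide)
  obtain ⟨V, hV⟩ := hloc _ hη hηZ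
  have hW' : genericPoint X ∈ W' := Opens.mem_iSup.mpr ⟨V, hV⟩
  have h1 : F.presheaf.germ W' _ hW' g = v := by
    have := congrArg (F.presheaf.germ V.1 _ hV) (hg V)
    rwa [ha, ZClosLib.germ_rs] at this
  refine (RefHullLib.bijective_bidual_generic hX hF.1).1 ?_
  show RefHull.stalkMapₗ β _ _ = RefHull.stalkMapₗ β _ v
  rw [← RefHull.stalkMapₗ_germ, ← RefHullLib.stalkMap_comp, IsIso.inv_hom_id, RefHullLib.stalkMap_id, ← h1,
    RefHull.stalkMapₗ_germ, ← ht, ZClosLib.germ_rs]

include hF in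
theorem eta_mem_of_ne (hs : sGerm s (genericPoint X) ≠ 0) : genericPoint X ∈ RefPow.isoLocus s := by
  refine (mem_isoLocus_iff s _).2 ?_
  obtain ⟨v0, hv0⟩ := Ref1Lib.exists_gen_generic hF
  obtain ⟨p, hp⟩ := hv0.2 (sGerm s (genericPoint X))
  have hp0 : p ≠ 0 := fun h => hs (by rw [← hp, h]; exact zero_smul _ v0)
  rw [← hp]
  refine (congrArg Function.Bijective (funext fun c => ?_)).mp
    (hv0.comp (show Function.Bijective (fun c : X.presheaf.stalk (genericPoint X) => c * p) from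
      mulRight_bijective₀ (G₀ := X.functionField) p hp0))
  exact mul_smul c p v0

end RefPowLib

end
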