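import Groth.Agent.RefPowLib.Basic

/-!
# Functions on the locus where the section generates
-/

set_option autoImplicit false
set_option linter.style.haveILetI false
universe u

open CategoryTheory AlgebraicGeometry TopologicalSpace Opposite

noncomputable section

namespace RefPowLib

open RefHullLib (specializes_generic mem_of_nonempty)
open Ref1Lib (spec FreeGen tp)

variable {X : Scheme.{u}} [IsIntegral X] [IsLocallyNoetherian X] {F : X.Modules}
  (s : Coh.structureModule X ⟶ F) (hF : RefHull.IsRef1 F) (U : X.Opens)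
  (hU : (U : Set X) = RefPow.isoLocus s)

theorem spec_sPowGerm (n : ℕ) (x : X) :
    spec (RefPow.refPow F n) x (RefPow.sPowGerm s n x) = RefPow.sPowGerm s n (genericPoint X) :=
  Ref1Lib.spec_germ _ (U := (⊤ : X.Opens)) trivial _

include hF hU in
/-- Where `s` generates, a section of a power is a regular function times the power. -/
theorem exists_coef (hη : genericPoint X ∈ U) {V W : X.Opens} (hWV : W ≤ V) (hWU : W ≤ U) (n : ℕ)
    (t : Γ(RefPow.refPow F n, V)) :
    ∃ r : Γ(X, W), ∀ hW : genericPoint X ∈ W, X.presheaf.germ W _ hW r • RefPow.sPowGerm s n (genericPoint X) =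
      (RefPow.refPow F n).presheaf.germ V _ (hWV hW) t := by
  have hg : ∀ x ∈ U, FreeGen (RefPow.refPow F n) x (RefPow.sPowGerm s n x) := fun x hx =>
    freeGen_sPow s hF (show x ∈ RefPow.isoLocus s by rw [← hU]; exact hx) n
  by_cases hW : genericPoint X ∈ W
  · obtain ⟨φ, hφ⟩ := (hg _ hη).2 ((RefPow.refPow F n).presheaf.germ V _ (hWV hW) t)
    obtain ⟨r, hr⟩ := Ref1Lib.exists_section_of_reg' hW (φ : X.functionField) fun x hx => by
      obtain ⟨a, ha⟩ := (hg x (hWU hx)).2 ((RefPow.refPow F n).presheaf.germ V x (hWV hx) t)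
      refine ⟨a, (hg _ hη).1 ?_⟩
      refine Eq.trans ?_ hφ.symm
      have h1 := congrArg (spec (RefPow.refPow F n) x) ha
      dsimp only at h1
      rw [Ref1Lib.spec_smul, spec_sPowGerm, Ref1Lib.spec_germ] at h1
      exact h1
    exact ⟨r, fun _ => (congrArg (fun c => c • _) hr).trans hφ⟩
  · exact ⟨0, fun h => absurd h hW⟩

include hF hU in
/-- Functions on the generating locus extend to sections of high powers. -/
theorem exists_pow_extend (hX : Pi1.IsNormalScheme X) (hη : genericPoint X ∈ U) {V W : X.Opens}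
    (hV : IsAffineOpen V) (hηV : genericPoint X ∈ V) (hW : ∀ x ∈ V, x ∈ U → x ∈ W)
    (r : Γ(X, W)) :
    ∃ N : ℕ, ∀ n, N ≤ n → ∃ t : Γ(RefPow.refPow F n, V),
      (RefPow.refPow F n).presheaf.germ V _ hηV t =
        X.presheaf.germ W _ (hW _ hηV hη) r • RefPow.sPowGerm s n (genericPoint X) := by
  classical
  let f : X.functionField := X.presheaf.germ W _ (hW _ hηV hη) r
  let B := (Ref1Lib.finite_coheight_one_inter U hη hV).toFinset
  refine ⟨∑ x ∈ B, (-(Scheme.ord f x)).toNat, fun n hn => ?_⟩
  obtain ⟨t, ht⟩ := exists_section_of_lattice (isRef1_refPow hF n) hX (W := V)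
    ((f : X.presheaf.stalk (genericPoint X)) • RefPow.sPowGerm s n (genericPoint X)) fun x hxV hx => by
      obtain ⟨a, hau, hT⟩ := exists_gen_pow s hF hX hx
      obtain ⟨T, -, hTs⟩ := hT n
      have hreg : CDivCoreLib.Reg (f * algebraMap (X.presheaf.stalk x) X.functionField a ^ n) x := by
        by_cases hxU : x ∈ U
        · refine ⟨X.presheaf.germ W x (hW x hxV hxU) r * a ^ n, ?_⟩
          rw [map_mul, map_pow, CDivCoreLib.algebraMap_germ]
        by_cases hf : f = 0
        · exact ⟨0, by rw [map_zero, hf, zero_mul]⟩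
        by_cases ha : a = 0
        · rcases Nat.eq_zero_or_pos n with h0 | h0
          · subst h0
            have h1 : (-(Scheme.ord f x)).toNat ≤ 0 := le_trans (Finset.single_le_sum
              (f := fun x => (-(Scheme.ord f x)).toNat) (fun _ _ => Nat.zero_le _)
              (show x ∈ B from (Set.Finite.mem_toFinset (Ref1Lib.finite_coheight_one_inter U hη hV)).2 ⟨hx, hxV, hxU⟩)) hn
            rw [pow_zero, mul_one]
            exact CDivCoreLib.reg_of_ord_nonneg hX hx hf (by omega)
          · exact ⟨0, by rw [map_zero, ha, map_zero, zero_pow h0.ne', mul_zero]⟩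
        have haK : algebraMap (X.presheaf.stalk x) X.functionField a ≠ 0 :=
          (map_ne_zero_iff _ (IsFractionRing.injective (X.presheaf.stalk x) X.functionField)).2 ha
        refine CDivCoreLib.reg_of_ord_nonneg hX hx (mul_ne_zero hf (pow_ne_zero n haK)) ?_
        rw [Scheme.ord_mul hf (pow_ne_zero n haK), Ref1Lib.ord_pow' haK]
        have h0 := CDivCoreLib.ord_nonneg_of_reg hX hx haK ⟨a, rfl⟩
        have h1 : 1 ≤ Scheme.ord (algebraMap (X.presheaf.stalk x) X.functionField a) x := by
          by_contra hlt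
          obtain ⟨-, ⟨b, hb⟩⟩ := (CDivCoreLib.ord_eq_zero_iff hX hx haK).1 (by omega)
          refine hxU (show x ∈ (U : Set X) from hU ▸ hau (isUnit_iff_exists_inv.2 ⟨b,
            IsFractionRing.injective (X.presheaf.stalk x) X.functionField ?_⟩))
          rw [map_mul, map_one, hb, mul_inv_cancel₀ haK]
        have h2 : (-(Scheme.ord f x)).toNat ≤ n := le_trans (Finset.single_le_sum
          (f := fun x => (-(Scheme.ord f x)).toNat) (fun _ _ => Nat.zero_le _)
          (show x ∈ B from (Set.Finite.mem_toFinset (Ref1Lib.finite_coheight_one_inter U hη hV)).2 ⟨hx, hxV, hxU⟩)) hn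
        have h3 : (n : ℤ) * 1 ≤ n * Scheme.ord (algebraMap (X.presheaf.stalk x) X.functionField a) x :=
          mul_le_mul_of_nonneg_left h1 (Int.natCast_nonneg n)
        omega
      obtain ⟨c, hc⟩ := hreg
      refine ⟨c • T, ?_⟩
      rw [Ref1Lib.spec_smul, hc, ← spec_sPowGerm s n x, hTs, Ref1Lib.spec_smul, map_pow, smul_smul]
  exact ⟨t, ht hηV⟩

end RefPowLib

end
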